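import Cfsg.Agent.Lib.S3342Four.Quot
import Cfsg.Agent.Lib.S3342CentZ.Levi
import Cfsg.Agent.Lib.Solvable.Coprime

/-!
S3342, the orbit of four points: the two Levi factors commute and the centraliser of the involution has order at
most `576`.
-/

set_option autoImplicit false
set_option maxRecDepth 20000
set_option synthInstance.maxSize 10000
set_option linter.style.haveILetI false
set_option linter.unusedSectionVars false

namespace Cfsg.Agent.S3342Four

open Cfsg.Agent.Hayden Cfsg.Agent.Hayden.Cfg Cfsg.Agent.S3342CentZ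
open Cfsg.Agent.S3342Two (TP TP_le_VJ TP_le_cent TP_card)

universe u

variable {G : Type u} [Group G] [Finite G] {el : ℕ → G} {s : G}

/-- The core as a subgroup of the group. -/
def Oc (el : ℕ → G) : Subgroup G := (cO el).map (cz el).subtype

/-- The second quaternion group. -/
def quat2 (C : Cfg el) (s : G) : Subgroup G := (quat C).map (MulAut.conj s).toMonoidHom

theorem Oc_le : Oc el ≤ cz el := Subgroup.map_subtype_le _

theorem Oc_conj {d g : G} (hd : Commute d (el 81)) (hg : g ∈ Oc el) : d * g * d⁻¹ ∈ Oc el := by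
  obtain ⟨o, ho, rfl⟩ := hg
  exact ⟨_, Subgroup.Normal.conj_mem inferInstance o ho ⟨d, Subgroup.mem_centralizer_singleton_iff.2 hd.eq⟩, rfl⟩

theorem Oc_coprime : (Nat.card (Oc el)).Coprime 3 := by
  haveI : Fact (Nat.Prime 3) := ⟨Nat.prime_three⟩
  rw [Oc, Subgroup.card_map_of_injective (cz el).subtype_injective]
  exact FittingCores.pPrimeCore_coprime 3

theorem Oc_z {g : G} (hg : g ∈ Oc el) : Commute g (el 81) := Subgroup.mem_centralizer_singleton_iff.1 (Oc_le hg)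

variable (C : Cfg el) (S : C.Sw s) (hO : ∀ v < 27, C.Orb v ↔ v ∈ O4)
include C

theorem z_mem_Oc : el 81 ∈ Oc el := ⟨zD el, zD_mem C, rfl⟩

theorem eq_one_of_TP {g : G} (hg : g ∈ Oc el) (h : g ∈ TP C) : g = 1 :=
  orderOf_eq_one_iff.1 (Nat.eq_one_of_dvd_coprimes Oc_coprime (Subgroup.orderOf_dvd_natCard _ hg)
    (orderOf_dvd_of_pow_eq_one (C.VJ_cube (TP_le_VJ C h))))

theorem quat_four_pow {g : G} (hg : g ∈ quat C) : g ^ 4 = 1 := by
  rw [show 4 = 2 * 2 by norm_num, pow_mul, pow_two g]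
  rcases quat_sq C hg with e | e <;> rw [e]
  · exact one_pow _
  · rw [pow_two, C.z_sq]

/-- An element of the core centralising the distinguished element. -/
theorem mem_quat {g : G} (hg : g ∈ Oc el) (h9 : Commute g (el 9)) : g ∈ quat C := by
  obtain ⟨h12, h4⟩ := exponent_cent C (Oc_z hg) h9.eq
  refine h4 (orderOf_dvd_iff_pow_eq_one.1 ?_)
  exact Nat.Coprime.dvd_of_dvd_mul_left (Oc_coprime.coprime_dvd_left (Subgroup.orderOf_dvd_natCard _ hg))
    (by rw [show 3 * 4 = 12 by norm_num]; exact orderOf_dvd_of_pow_eq_one h12)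

include S hO

theorem s_s (g : G) : s * (s * g * s⁻¹) * s⁻¹ = g := by
  rw [show s * (s * g * s⁻¹) * s⁻¹ = (s * s) * g * (s * s)⁻¹ by group, S.sq]
  group

theorem mem_quat2 {g : G} : g ∈ quat2 C s ↔ s * g * s⁻¹ ∈ quat C := by
  constructor
  · rintro ⟨q, hq, rfl⟩
    show s * (s * q * s⁻¹) * s⁻¹ ∈ quat C
    rwa [s_s C S hO]
  · intro h
    exact ⟨_, h, s_s C S hO g⟩

theorem Oc_s {g : G} (hg : g ∈ Oc el) : s * g * s⁻¹ ∈ Oc el := Oc_conj (s_z C S hO) hg

/-- The centralisers in the core. -/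
theorem Oc_cent {g t : G} (hg : g ∈ Oc el) (ht : t ∈ TP C) (h1 : t ≠ 1) (hc : Commute g t) :
    g ∈ quat C ∨ g ∈ quat2 C s := by
  rcases plane_cases C S hO ht h1 hc with h | h | h
  · exact Or.inl (mem_quat C hg h)
  · exact Or.inr ((mem_quat2 C S hO).2 (mem_quat C (Oc_s C S hO hg) h))
  · left
    refine mem_quat C hg ?_
    have h9 : el 9 ∈ TP C := S3342Two.TP_nine C
    have hn := norm_of_VJ C (Oc_z hg) (cg_le C S hO h) _ h9
    have hzero : g * el 9 * g⁻¹ * (el 9)⁻¹ = 1 := eq_one_of_TP C (by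
      rw [show g * el 9 * g⁻¹ * (el 9)⁻¹ = g * (el 9 * g⁻¹ * (el 9)⁻¹) by group]
      exact mul_mem hg (Oc_conj (Subgroup.mem_centralizer_singleton_iff.1 (TP_le_cent C h9)) (inv_mem hg)))
      (mul_mem hn (inv_mem h9))
    exact mul_inv_eq_iff_eq_mul.1 (mul_inv_eq_one.1 hzero)

/-- A subgroup of the core normalised by the plane is generated by its intersections with the quaternion groups. -/
theorem le_of_invariant {R : Subgroup G} (hR : R ≤ Oc el) (hT : ∀ t ∈ TP C, ∀ r ∈ R, t * r * t⁻¹ ∈ R)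
    {H : Subgroup G} (h1 : R ⊓ quat C ≤ H) (h2 : R ⊓ quat2 C s ≤ H) : R ≤ H := by
  haveI : IsMulCommutative (TP C) :=
    ⟨⟨fun x y => Subtype.ext (C.VJ_comm (TP_le_VJ C x.2) (TP_le_VJ C y.2))⟩⟩
  have hnc : ¬ IsCyclic (TP C) := fun hc => by
    obtain ⟨g, hg⟩ := hc.exists_generator
    have e := orderOf_eq_card_of_forall_mem_zpowers hg
    rw [TP_card C] at e
    have h2 := e ▸ orderOf_dvd_of_pow_eq_one (show g ^ 3 = 1 from Subtype.ext (C.VJ_cube (TP_le_VJ C g.2)))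
    norm_num at h2
  have hA : TP C ≤ Subgroup.normalizer (R : Set G) := fun x hx =>
    Subgroup.mem_normalizer_fintype fun r hr => hT x hx r hr
  have hcop : (Nat.card (TP C)).Coprime (Nat.card R) := by
    rw [TP_card C]
    exact Nat.Coprime.pow_left 2 ((Oc_coprime (el := el)).coprime_dvd_left (Subgroup.card_dvd_of_le hR)).symm
  rw [← CoprimeAct.generated_by_centralizers hnc hA hcop]
  refine iSup₂_le fun t ht g hg => ?_
  rcases Oc_cent C S hO (hR hg.1) ht.1 ht.2 (Subgroup.mem_centralizer_singleton_iff.1 hg.2) with h | h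
  · exact h1 ⟨hg.1, h⟩
  · exact h2 ⟨hg.1, h⟩

theorem TP_z {t : G} (ht : t ∈ TP C) : Commute t (el 81) :=
  Subgroup.mem_centralizer_singleton_iff.1 (TP_le_cent C ht)

/-- The core is a two-group. -/
theorem Oc_two : IsPGroup 2 (Oc el) := by
  classical
  refine IsPGroup.of_card (n := (Nat.card (Oc el)).primeFactorsList.length)
    (Nat.eq_prime_pow_of_unique_prime_dvd Nat.card_pos.ne' fun {r} hr hrd => ?_)
  by_contra hr2
  haveI := Fact.mk hr
  haveI : IsMulCommutative (TP C) :=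
    ⟨⟨fun x y => Subtype.ext (C.VJ_comm (TP_le_VJ C x.2) (TP_le_VJ C y.2))⟩⟩
  obtain ⟨P, hP⟩ := CoprimeAct.exists_invariant_sylow (A := TP C) (K := Oc el)
    (fun t ht => Subgroup.mem_normalizer_fintype fun g hg => Oc_conj (TP_z C S hO ht) hg)
    (by rw [TP_card C]; exact Nat.Coprime.pow_left 2 (Oc_coprime (el := el)).symm)
    (Or.inl (Group.isSolvable_of_comm fun a b => mul_comm' a b)) r
  set R := (P : Subgroup (Oc el)).map (Oc el).subtype
  have hbot : R ≤ ⊥ := by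
    refine le_of_invariant C S hO (Subgroup.map_subtype_le _)
      (fun t ht x hx => (Subgroup.mem_normalizer_iff.1 (hP ht) x).1 hx) ?_ ?_ <;>
    · rintro g ⟨⟨x, hx, rfl⟩, hq⟩
      obtain ⟨k, hk⟩ := P.isPGroup' ⟨x, hx⟩
      have hxk : (x : G) ^ r ^ k = 1 := congrArg (fun y : (P : Subgroup (Oc el)) => ((y : Oc el) : G)) hk
      have hx4 : (x : G) ^ 4 = 1 := by
        first
        | exact quat_four_pow C hq
        | (have h4 := quat_four_pow C ((mem_quat2 C S hO).1 hq)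
           rw [conj_pow] at h4
           exact conj_eq_one_iff.1 h4)
      rw [Subgroup.mem_bot]
      exact orderOf_eq_one_iff.1 (Nat.eq_one_of_dvd_coprimes
        (Nat.Coprime.pow k 2 ((Nat.coprime_primes hr Nat.prime_two).2 hr2))
        (orderOf_dvd_of_pow_eq_one hxk) (orderOf_dvd_of_pow_eq_one hx4))
  refine P.not_dvd_index ?_
  have hP1 : (P : Subgroup (Oc el)) = ⊥ :=
    (Subgroup.map_eq_bot_iff_of_injective _ (Oc el).subtype_injective).1 (le_bot_iff.1 hbot)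
  rw [hP1, Subgroup.index_bot]
  exact hrd

/-- The Levi quaternion group lies in the core. -/
theorem quat_le : quat C ≤ Oc el := by
  haveI : Fact (Nat.Prime 3) := ⟨Nat.prime_three⟩
  obtain ⟨P, hP⟩ := sylow_cz C S hO
  set Tb := (P : Subgroup (cz el)).map (pr el)
  have hTb : Nat.card Tb = 9 := by
    have hinj : Function.Injective ((pr el).comp (P : Subgroup (cz el)).subtype) := by
      rw [injective_iff_map_eq_one]
      intro a ha
      exact Subtype.ext (pr_plane_inj C (Subgroup.mem_subgroupOf.1 (hP.le a.2)) ha)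
    have h1 : Nat.card ((pr el).comp (P : Subgroup (cz el)).subtype).range = 9 := by
      rw [← Nat.card_congr (MonoidHom.ofInjective hinj).toEquiv, hP,
        Nat.card_congr (Subgroup.subgroupOfEquivOfLe (TP_le_cent C)).toEquiv, TP_card C]
      norm_num
    rwa [MonoidHom.range_comp, Subgroup.range_subtype] at h1
  have hidx : Tb.index ≤ 2 := by
    have h1 := Tb.card_mul_index
    rw [hTb] at h1
    have h2 := card_quot C S hO
    omega
  haveI hTn : Tb.Normal := by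
    have : Tb.index ≠ 0 := Subgroup.index_ne_zero_of_finite
    rcases (by omega : Tb.index = 1 ∨ Tb.index = 2) with h | h
    · rw [Subgroup.index_eq_one.1 h]; infer_instance
    · exact Subgroup.normal_of_index_eq_two h
  have hcube : ∀ y ∈ Tb, y ^ 3 = 1 := by
    rintro _ ⟨a, ha, rfl⟩
    rw [← map_pow, show a ^ 3 = 1 from Subtype.ext (by
      rw [SubgroupClass.coe_pow]; exact C.VJ_cube (TP_le_VJ C (Subgroup.mem_subgroupOf.1 (hP.le ha)))), map_one]
  have h54 : el (vi 18) ∈ TP C := el_mem_TP C (by decide)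
  rw [chk_swap.2.2.2.2.2.1] at h54
  intro q hq
  obtain ⟨q₀, hq₀, w, hw, hqe⟩ := quat_self_comm C (b := 54) (by norm_num) chk_quat_act.2.2.2.2.1 hq
  have mD : ∀ {g : G}, g ∈ quat C → g ∈ cz el := fun h =>
    Subgroup.mem_centralizer_singleton_iff.2 (quat_comm C h).1.eq
  let qD : cz el := ⟨q, mD hq⟩
  let qD₀ : cz el := ⟨q₀, mD hq₀⟩
  let b : cz el := ⟨el 54, TP_le_cent C h54⟩
  let wD : cz el := ⟨w, mD (quat_z C hw)⟩
  have hb : pr el b ∈ Tb := Subgroup.mem_map_of_mem _ (hP.ge (Subgroup.mem_subgroupOf.2 h54))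
  have hw1 : pr el wD = 1 := by
    rcases hw with rfl | rfl
    · exact (congrArg (pr el) (Subtype.ext rfl)).trans (map_one _)
    · exact pr_zD C
  have hqT : pr el qD ∈ Tb := by
    have e : qD = qD₀⁻¹ * b * qD₀⁻¹⁻¹ * b⁻¹ * wD := Subtype.ext (by
      show q = q₀⁻¹ * el 54 * q₀⁻¹⁻¹ * (el 54)⁻¹ * w
      rw [hqe]; group)
    rw [e, map_mul, hw1, mul_one, map_mul, map_mul, map_mul, map_inv, map_inv, map_inv]
    exact mul_mem (hTn.conj_mem _ hb _) (inv_mem hb)
  have h1 : pr el qD = 1 := by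
    refine orderOf_eq_one_iff.1 (Nat.eq_one_of_dvd_coprimes (by norm_num : Nat.Coprime 3 4)
      (orderOf_dvd_of_pow_eq_one (hcube _ hqT)) (orderOf_dvd_of_pow_eq_one ?_))
    rw [← map_pow, show qD ^ 4 = 1 from Subtype.ext (by rw [SubgroupClass.coe_pow]; exact quat_four_pow C hq), map_one]
  exact ⟨qD, (QuotientGroup.eq_one_iff _).1 h1, rfl⟩

theorem quat2_le : quat2 C s ≤ Oc el := fun g hg => by
  rw [← s_s C S hO g]
  exact Oc_s C S hO (quat_le C S hO ((mem_quat2 C S hO).1 hg))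

/-- The common part of the two quaternion groups. -/
theorem quat_inf {g : G} (h1 : g ∈ quat C) (h2 : g ∈ quat2 C s) : g = 1 ∨ g = el 81 := by
  have h18 : Commute g (el (vi 18)) := by
    have h := (Commute.conj_iff s).2 (quat_comm C ((mem_quat2 C S hO).1 h2)).2
    rwa [s_s C S hO, ← chk_swap.2.2.2.2.2.2.1, S.act 1 (by norm_num), chk_swap.2.2.1] at h
  obtain ⟨v, hv, e⟩ := mem_TZ C (quat_comm C h1).1 (chk_swap.2.2.2.2.2.2.1.symm ▸ (quat_comm C h1).2) h18
  have h4 := quat_four_pow C h1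
  have hv4 : el (vi v) ^ 4 = 1 := by
    rcases e with rfl | rfl
    · exact h4
    · rw [(el_plane_z C hv).mul_pow, show el 81 ^ 4 = 1 by
        rw [show 4 = 2 * 2 by norm_num, pow_mul, pow_two (el 81), C.z_sq, one_pow], mul_one] at h4
      exact h4
  have hv1 : el (vi v) = 1 := by
    rw [pow_succ, C.VJ_cube ⟨v, (chk_pt.2.2.2 v hv).1, rfl⟩, one_mul] at hv4
    exact hv4
  rcases e with rfl | rfl
  · exact Or.inl hv1
  · exact Or.inr (by rw [hv1, one_mul])

theorem s_conj_el9 : s * el 9 * s⁻¹ = el 54 := by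
  rw [← chk_swap.2.2.2.2.2.2.1, S.act 1 (by norm_num), chk_swap.2.2.1, chk_swap.2.2.2.2.2.1]

theorem s_conj_el54 : s * el 54 * s⁻¹ = el 9 := by
  rw [← s_conj_el9 C S hO, s_s C S hO]

/-- The plane normalises each quaternion group. -/
theorem TP_quat {t : G} (ht : t ∈ TP C) :
    (∀ q ∈ quat C, t * q * t⁻¹ ∈ quat C) ∧ ∀ q ∈ quat2 C s, t * q * t⁻¹ ∈ quat2 C s := by
  have key : ∀ {u : G}, u ∈ TP C → ∀ q ∈ quat C, u * q * u⁻¹ ∈ quat C := by
    rintro _ ⟨v, hv, rfl⟩ q hq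
    have hi : vi v < 648 := chk_j.1 v (chk_pt.2.2.2 v hv).1
    refine quat_conj C hi ?_ hq
    exact (chk_cent_az _ hi ((C.comm_iff hi (by norm_num)).1 (el_plane_z C hv).eq)).2
  refine ⟨key ht, fun q hq => (mem_quat2 C S hO).2 ?_⟩
  have hst : s * t * s⁻¹ ∈ TP C := by
    obtain ⟨v, hv, rfl⟩ := ht
    rw [S.act v (chk_pt.2.2.2 v hv).1]
    exact el_mem_TP C (chk_fz.2.1 v hv).2
  have := key hst _ ((mem_quat2 C S hO).1 hq)
  rwa [show s * (t * q * t⁻¹) * s⁻¹ = s * t * s⁻¹ * (s * q * s⁻¹) * (s * t * s⁻¹)⁻¹ by group]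

/-- The second quaternion group normalises the first. -/
theorem quat2_norm : quat2 C s ≤ Subgroup.normalizer (quat C : Set G) := by
  have hz1 : el 81 ∈ quat C := z_mem_quat C
  by_cases hall : quat C = Oc el
  · intro y hy
    exact Subgroup.le_normalizer (hall ▸ quat2_le C S hO hy)
  haveI : Fact (Nat.Prime 2) := ⟨Nat.prime_two⟩
  haveI : Group.IsNilpotent (Oc el) := (Oc_two C S hO).isNilpotent
  set Q' := (quat C).subgroupOf (Oc el)
  have hQ' : Q' < ⊤ := lt_top_iff_ne_top.2 fun h =>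
    hall (le_antisymm (quat_le C S hO) (Subgroup.subgroupOf_eq_top.1 h))
  obtain ⟨y₀, hy₀, hy₀Q⟩ := SetLike.exists_of_lt (normalizerCondition_of_isNilpotent Q' hQ')
  set R := Oc el ⊓ Subgroup.normalizer (quat C : Set G) with hR
  have hy₀R : (y₀ : G) ∈ R := ⟨y₀.2, Subgroup.mem_normalizer_fintype fun q hq =>
    Subgroup.mem_subgroupOf.1 ((Subgroup.mem_normalizer_iff.1 hy₀ ⟨q, quat_le C S hO hq⟩).1
      (Subgroup.mem_subgroupOf.2 hq))⟩
  have hTN : ∀ t ∈ TP C, t ∈ Subgroup.normalizer (quat C : Set G) := fun t ht =>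
    Subgroup.mem_normalizer_fintype fun q hq => (TP_quat C S hO ht).1 q hq
  have hTR : ∀ t ∈ TP C, ∀ r ∈ R, t * r * t⁻¹ ∈ R := fun t ht r hr =>
    Subgroup.mem_inf.2 ⟨Oc_conj (TP_z C S hO ht) hr.1,
      mul_mem (mul_mem (hTN t ht) (Subgroup.mem_inf.1 hr).2) (inv_mem (hTN t ht))⟩
  obtain ⟨y, hy, hyne⟩ : ∃ y ∈ R ⊓ quat2 C s, y ∉ quat C := by
    by_contra h
    push Not at h
    exact hy₀Q (Subgroup.mem_subgroupOf.2 (le_of_invariant C S hO inf_le_left hTR inf_le_right h hy₀R))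
  have hq : s * y * s⁻¹ ∈ quat C := (mem_quat2 C S hO).1 hy.2
  have hzz : s * el 81 * s⁻¹ = el 81 := by rw [(s_z C S hO).eq, mul_inv_cancel_right]
  have hq2 : s * y * s⁻¹ * (s * y * s⁻¹) = el 81 := by
    refine (quat_sq C hq).resolve_left fun e => hyne ?_
    rw [← s_s C S hO y]
    rcases quat_sq_one C hq e with e' | e' <;> rw [e']
    · rw [mul_one, mul_inv_cancel]; exact one_mem _
    · rw [hzz]; exact hz1
  have hsub : quat C ≤ R.map (MulAut.conj s).toMonoidHom := by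
    refine quat_subset C hq hq2 (b := 54) (by simp) ⟨el 81, ⟨z_mem_Oc C, Subgroup.le_normalizer hz1⟩, hzz⟩
      ⟨y, hy.1, rfl⟩ ⟨el 9 * y * (el 9)⁻¹, hTR _ (S3342Two.TP_nine C) _ hy.1, ?_⟩
    show s * (el 9 * y * (el 9)⁻¹) * s⁻¹ = _
    rw [← s_conj_el9 C S hO]; group
  intro x hx
  obtain ⟨r, hr, hre⟩ := hsub ((mem_quat2 C S hO).1 hx)
  have : r = x := (MulAut.conj s).injective hre
  exact this ▸ hr.2

/-- The two quaternion groups commute. -/
theorem quat_commute {x y : G} (hx : x ∈ quat C) (hy : y ∈ quat2 C s) : Commute x y := by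
  have key : ∀ {y : G}, y ∈ quat2 C s → x * y * x⁻¹ * y⁻¹ = 1 ∨ x * y * x⁻¹ * y⁻¹ = el 81 := fun {y} hy => by
    refine quat_inf C S hO ?_ ?_
    · rw [show x * y * x⁻¹ * y⁻¹ = x * (y * x⁻¹ * y⁻¹) by group]
      exact mul_mem hx ((Subgroup.mem_normalizer_iff.1 (quat2_norm C S hO hy) _).1 (inv_mem hx))
    · refine mul_mem ((mem_quat2 C S hO).2 ?_) (inv_mem hy)
      have hn := quat2_norm C S hO (x := s * x * s⁻¹) ((mem_quat2 C S hO).2 (by rwa [s_s C S hO]))
      have := (Subgroup.mem_normalizer_iff.1 hn _).1 ((mem_quat2 C S hO).1 hy)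
      rwa [show s * (x * y * x⁻¹) * s⁻¹ = s * x * s⁻¹ * (s * y * s⁻¹) * (s * x * s⁻¹)⁻¹ by group]
  obtain ⟨q₀, hq₀, w, hw, hqe⟩ :=
    quat_self_comm C (b := 54) (by norm_num) chk_quat_act.2.2.2.2.1 ((mem_quat2 C S hO).1 hy)
  set y₀ := s * q₀ * s⁻¹ with hy₀def
  have hy₀ : y₀ ∈ quat2 C s := ⟨q₀, hq₀, rfl⟩
  have hy₁ : el 9 * y₀ * (el 9)⁻¹ ∈ quat2 C s := (TP_quat C S hO (S3342Two.TP_nine C)).2 _ hy₀
  have hzw : Commute x (s * w * s⁻¹) := by
    rcases hw with rfl | rfl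
    · simp [Commute.one_right]
    · rw [(s_z C S hO).eq, mul_inv_cancel_right]; exact (quat_comm C hx).1
  have hye : y = y₀⁻¹ * (el 9 * y₀ * (el 9)⁻¹) * (s * w * s⁻¹) := by
    conv_lhs => rw [← s_s C S hO y, hqe]
    rw [hy₀def, ← s_conj_el54 C S hO]
    group
  rw [hye]
  refine Commute.mul_right ?_ hzw
  have hax : el 9 * x * (el 9)⁻¹ = x := by rw [(quat_comm C hx).2.symm.eq, mul_inv_cancel_right]
  have hconj : x * (el 9 * y₀ * (el 9)⁻¹) * x⁻¹ * (el 9 * y₀ * (el 9)⁻¹)⁻¹ =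
      el 9 * (x * y₀ * x⁻¹ * y₀⁻¹) * (el 9)⁻¹ := by
    conv_lhs => rw [← hax]
    group
  have h81 : Commute (el 9) (el 81) := TP_z C S hO (S3342Two.TP_nine C)
  rcases key hy₀ with e | e
  · rw [e, mul_one, mul_inv_cancel] at hconj
    exact (Commute.inv_right (mul_inv_eq_iff_eq_mul.1 (mul_inv_eq_one.1 e))).mul_right
      (mul_inv_eq_iff_eq_mul.1 (mul_inv_eq_one.1 hconj))
  · rw [e, h81.eq, mul_inv_cancel_right] at hconj
    have e0 : x * y₀ * x⁻¹ = el 81 * y₀ := mul_inv_eq_iff_eq_mul.1 e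
    have e1 : x * (el 9 * y₀ * (el 9)⁻¹) * x⁻¹ = el 81 * (el 9 * y₀ * (el 9)⁻¹) := mul_inv_eq_iff_eq_mul.1 hconj
    refine mul_inv_eq_iff_eq_mul.1 ?_
    calc x * (y₀⁻¹ * (el 9 * y₀ * (el 9)⁻¹)) * x⁻¹
        = (x * y₀ * x⁻¹)⁻¹ * (x * (el 9 * y₀ * (el 9)⁻¹) * x⁻¹) := by group
      _ = _ := by rw [e0, e1]; group

/-- The products of the two quaternion groups. -/
def QQ : Subgroup G :=
  M12Cent.ofClosed {g | ∃ x ∈ quat C, ∃ y ∈ quat2 C s, x * y = g}
    ⟨1, one_mem _, 1, one_mem _, one_mul 1⟩ (by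
    rintro _ ⟨x, hx, y, hy, rfl⟩ _ ⟨x', hx', y', hy', rfl⟩
    refine ⟨x * x', mul_mem hx hx', y * y', mul_mem hy hy', ?_⟩
    calc x * x' * (y * y') = x * (x' * y) * y' := by group
      _ = _ := by rw [(quat_commute C S hO hx' hy).eq]; group)

/-- The two Levi factors commute and the centraliser of the involution is small. -/
theorem four_facts :
    (∀ k < 24, ∀ l < 24, Commute (el (27 * k)) (s * el (27 * l) * s⁻¹)) ∧
      Nat.card (Subgroup.centralizer ({el 81} : Set G)) ≤ 576 := by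
  refine ⟨fun k hk l hl => ?_, ?_⟩
  · have hdec : ∀ k < 24, ∃ q ∈ quat C, ∃ j : ℕ, el (27 * k) = q * el 54 ^ j := fun k hk => by
      obtain ⟨q, hq, j, hj, e⟩ := chk_quat_act.2.2.2.2.2.2.2 k hk
      refine ⟨_, ⟨q, hq, rfl⟩, j, ?_⟩
      rw [← e, ← C.mul _ (quat_lt C hq) _ (chk_j.1 _ (C.vsm_lt (by norm_num))), C.el_vsm hj (by norm_num),
        chk_swap.2.2.2.2.2.1]
    obtain ⟨q, hq, j, hje⟩ := hdec k hk
    obtain ⟨q', hq', j', hje'⟩ := hdec l hl
    rw [hje, hje', show s * (q' * el 54 ^ j') * s⁻¹ = s * q' * s⁻¹ * (s * el 54 ^ j' * s⁻¹) by group, ← conj_pow,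
      s_conj_el54 C S hO]
    have h54 : Commute (el 54) (s * q' * s⁻¹) := by
      have := (Commute.conj_iff s).2 (quat_comm C hq').2.symm
      rwa [s_conj_el9 C S hO] at this
    have h549 : Commute (el 54) (el 9) := (C.comm_iff (by norm_num) (by norm_num)).2 (by decide +kernel)
    exact ((quat_commute C S hO hq ⟨q', hq', rfl⟩).mul_right ((quat_comm C hq).2.pow_right j')).mul_left
      ((h54.mul_right (h549.pow_right j')).pow_left j)
  · obtain ⟨reps, hreps, hrep⟩ := chk_rep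
    have hQ : Oc el ≤ QQ C S hO := le_of_invariant C S hO le_rfl (fun t ht r hr => Oc_conj (TP_z C S hO ht) hr)
      (fun x hx => ⟨x, hx.2, 1, one_mem _, mul_one x⟩) (fun y hy => ⟨1, one_mem _, y, hy.2, one_mul y⟩)
    have hcard : Nat.card (QQ C S hO) ≤ 32 := by
      have hsurj : Function.Surjective fun p : Fin 8 × Fin 4 => (⟨el (27 * q8.getD p.1 0) * (s * el (27 * reps p.2) * s⁻¹),
          _, ⟨_, by rw [List.getD_eq_getElem _ _ (chk_len.symm ▸ p.1.2)]; exact List.getElem_mem _, rfl⟩,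
          _, ⟨_, ⟨_, hreps p.2, rfl⟩, rfl⟩, rfl⟩ : QQ C S hO) := by
        rintro ⟨g, x, hx, y, ⟨q, ⟨k, hk, rfl⟩, rfl⟩, rfl⟩
        obtain ⟨r, hr⟩ := hrep k hk
        have hlt := quat_lt C (hreps r)
        rcases hr with e | e
        · obtain ⟨a, ha, rfl⟩ := hx
          obtain ⟨i, hi, rfl⟩ := List.getElem_of_mem ha
          refine ⟨(⟨i, chk_len ▸ hi⟩, r), Subtype.ext ?_⟩
          show el (27 * q8.getD i 0) * (s * el (27 * reps r) * s⁻¹) = el (27 * q8[i]) * (s * el (27 * k) * s⁻¹)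
          rw [List.getD_eq_getElem _ _ hi, e]
        · obtain ⟨a, ha, hae⟩ := mul_mem hx (z_mem_quat C)
          obtain ⟨i, hi, rfl⟩ := List.getElem_of_mem ha
          refine ⟨(⟨i, chk_len ▸ hi⟩, r), Subtype.ext ?_⟩
          show el (27 * q8.getD i 0) * (s * el (27 * reps r) * s⁻¹) = x * (s * el (27 * k) * s⁻¹)
          rw [List.getD_eq_getElem _ _ hi, hae, e, ← C.mul _ hlt 81 (by norm_num),
            show s * (el (27 * reps r) * el 81) * s⁻¹ = s * el (27 * reps r) * s⁻¹ * (s * el 81 * s⁻¹) by group,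
            (s_z C S hO).eq, mul_inv_cancel_right]
          have hc : Commute (s * el (27 * reps r) * s⁻¹) (el 81) :=
            conj_s_z C S hO ((quat_comm C ⟨_, hreps r, rfl⟩).1)
          rw [hc.eq, mul_assoc]
      exact (Nat.card_le_card_of_surjective _ hsurj).trans (by simp)
    show Nat.card (cz el) ≤ 576
    rw [Subgroup.card_eq_card_quotient_mul_card_subgroup (cO el)]
    calc _ ≤ 18 * 32 := Nat.mul_le_mul (card_quot C S hO) ((le_of_eq
          (Subgroup.card_map_of_injective (cz el).subtype_injective).symm).trans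
          ((Nat.le_of_dvd Nat.card_pos (Subgroup.card_dvd_of_le hQ)).trans hcard))
      _ = 576 := by norm_num

end Cfsg.Agent.S3342Four
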