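import Cfsg.Agent.Lib.S3342Four.Table
import Cfsg.Agent.Lib.S3342Two.CentZ

/-!
S3342, the orbit of four points: the plane is a Sylow subgroup of the centraliser of the involution, and
its elements have small centralisers there.
-/

set_option autoImplicit false
set_option maxRecDepth 20000
set_option synthInstance.maxSize 10000
set_option linter.style.haveILetI false
set_option linter.unusedSectionVars false

namespace Cfsg.Agent.S3342Four

open Cfsg.Agent.Hayden Cfsg.Agent.Hayden.Cfg Cfsg.Agent.S3342CentZ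
open Cfsg.Agent.S3342Two (TP TP_le_VJ TP_le_cent TP_card)

universe u

theorem pl_eq : S3342Two.pl = plane := rfl

variable {G : Type u} [Group G] [Finite G] {el : ℕ → G} {s : G} (C : Cfg el)
include C

theorem el_mem_TP {v : ℕ} (hv : v ∈ plane) : el (vi v) ∈ TP C := ⟨v, hv, rfl⟩

theorem el_plane_z {v : ℕ} (hv : v ∈ plane) : Commute (el (vi v)) (el 81) := (S3342CentZ.plane_z C hv).symm

/-- The plane times the involution. -/
def TZ : Subgroup G :=
  M12Cent.ofClosed {g | ∃ v ∈ plane, g = el (vi v) ∨ g = el (vi v) * el 81}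
    ⟨0, by decide, Or.inl (by rw [chk_vi.2.1, C.el_zero])⟩ (by
    rintro g ⟨v, hv, hg⟩ g' ⟨w, hw, hg'⟩
    refine ⟨vadd v w, (chk_fz.1 v hv w hw).1, ?_⟩
    rw [C.el_vadd (chk_pt.2.2.2 v hv).1 (chk_pt.2.2.2 w hw).1]
    rcases hg with rfl | rfl <;> rcases hg' with rfl | rfl
    · exact Or.inl rfl
    · exact Or.inr (mul_assoc _ _ _).symm
    · exact Or.inr (by rw [mul_assoc, ← (el_plane_z C hw).eq, mul_assoc])
    · refine Or.inl ?_
      rw [mul_assoc, ← mul_assoc (el 81), ← (el_plane_z C hw).eq, mul_assoc, C.z_sq, mul_one])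

theorem TZ_pow {g : G} (hg : g ∈ TZ C) : g ^ 6 = 1 := by
  obtain ⟨v, hv, rfl | rfl⟩ := hg
  · rw [show 6 = 3 * 2 by norm_num, pow_mul, C.VJ_cube ⟨v, (chk_pt.2.2.2 v hv).1, rfl⟩, one_pow]
  · rw [(el_plane_z C hv).mul_pow, show 6 = 3 * 2 by norm_num, pow_mul, C.VJ_cube ⟨v, (chk_pt.2.2.2 v hv).1, rfl⟩,
      one_pow, one_mul, mul_comm 3 2, pow_mul, pow_two, C.z_sq, one_pow]

/-- The common centraliser in the centraliser of the involution. -/
theorem mem_TZ {g : G} (hz : Commute g (el 81)) (h1 : Commute g (el (vi 1))) (h18 : Commute g (el (vi 18))) :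
    g ∈ TZ C := by
  obtain ⟨v, hv, hve⟩ := S3342CentZ.cent_plane C h1 h18
  refine ⟨v, (chk_pair_z v hv).1 (C.inj _ (cj_lt (chk_j.1 v hv) (by norm_num)) 81 (by norm_num) ?_), hve⟩
  rw [← C.conj (chk_j.1 v hv) (by norm_num)]
  have hvz : Commute (el (vi v)) (el 81) := by
    rcases hve with e | e
    · exact e ▸ hz
    · rw [e] at hz
      have := hz.mul_left (Commute.refl (el 81))
      rwa [mul_assoc, C.z_sq, mul_one] at this
  rw [hvz.eq, mul_inv_cancel_right]

/-- Elements of the normaliser of the abelian subgroup centralising the involution normalise the plane. -/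
theorem norm_of_VJ {g : G} (hz : Commute g (el 81)) (hg : g ∈ Subgroup.normalizer (C.VJ : Set G)) :
    ∀ x ∈ TP C, g * x * g⁻¹ ∈ TP C := by
  rintro _ ⟨v, hv, rfl⟩
  obtain ⟨w, hw, hwe⟩ := (Subgroup.mem_normalizer_iff.1 hg _).1 ⟨v, (chk_pt.2.2.2 v hv).1, rfl⟩
  refine ⟨w, chk_plane_z w hw (C.inj _ (cj_lt (by norm_num) (chk_j.1 w hw)) _ (chk_j.1 w hw) ?_), hwe⟩
  rw [← C.conj (by norm_num) (chk_j.1 w hw), hwe]
  calc el 81 * (g * el (vi v) * g⁻¹) * (el 81)⁻¹ = (el 81 * g) * el (vi v) * (el 81 * g)⁻¹ := by group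
    _ = g * (el 81 * el (vi v) * (el 81)⁻¹) * g⁻¹ := by rw [← hz.eq]; group
    _ = _ := by rw [(el_plane_z C hv).symm.eq, mul_inv_cancel_right]

theorem exponent_cent {g : G} (hz : Commute g (el 81)) (h9 : g * el 9 = el 9 * g) :
    g ^ 12 = 1 ∧ (g ^ 4 = 1 → g ∈ quat C) := by
  obtain ⟨i, hi, rfl⟩ := (C.mem g).1 h9
  have h := chk_cent i hi ((C.comm_iff hi (by norm_num)).1 hz.eq)
  have e2 : el i ^ 2 = el (T i i) := by rw [pow_two, C.mul i hi i hi]
  have e3 : el i ^ 3 = el (T (T i i) i) := by rw [pow_succ, e2, C.mul _ (T_lt hi hi) i hi]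
  have h4 : el i ^ 4 = el (T (T i i) (T i i)) := by
    rw [show 4 = 2 * 2 by norm_num, pow_mul, e2, pow_two, C.mul _ (T_lt hi hi) _ (T_lt hi hi)]
  refine ⟨?_, fun hg => ?_⟩
  · rw [show 12 = 3 * (2 * 2) by norm_num, pow_mul, e3, pow_mul, pow_two, pow_two,
      C.mul _ (T_lt (T_lt hi hi) hi) _ (T_lt (T_lt hi hi) hi),
      C.mul _ (T_lt (T_lt (T_lt hi hi) hi) (T_lt (T_lt hi hi) hi)) _ (T_lt (T_lt (T_lt hi hi) hi) (T_lt (T_lt hi hi) hi)),
      h.1, C.el_zero]
  · rw [h4] at hg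
    obtain ⟨k, hk, hke⟩ := h.2 (C.inj _ (T_lt (T_lt hi hi) (T_lt hi hi)) _ (by norm_num) (hg.trans C.el_zero.symm))
    exact ⟨k, hk, by rw [hke]⟩

variable (S : C.Sw s) (hO : ∀ v < 27, C.Orb v ↔ v ∈ O4)
include S hO

theorem s_conj {v : ℕ} (hv : v < 27) : s * el (vi v) * s⁻¹ = el (vi (app swMap v)) := S.act v hv

theorem s_z : Commute s (el 81) := S.z

/-- The normaliser of the plane in the centraliser of the involution. -/
theorem norm_plane {g : G} (hz : Commute g (el 81)) (hN : ∀ x ∈ TP C, g * x * g⁻¹ ∈ TP C) :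
    g ∈ TZ C ∨ s * g ∈ TZ C := by
  have hlt : ∀ {v : ℕ}, v ∈ plane → v < 27 := fun hv => (chk_pt.2.2.2 _ hv).1
  have hmem : g ∈ Subgroup.normalizer (TP C : Set G) := Subgroup.mem_normalizer_fintype fun x hx => hN x hx
  have himg : ∀ {k : G}, k ∈ Subgroup.normalizer (TP C : Set G) → ∀ w ∈ plane,
      ∃ v ∈ plane, k * el (vi w) * k⁻¹ = el (vi v) := fun {k} hk w hw => by
    obtain ⟨v, hv, hve⟩ := (Subgroup.mem_normalizer_iff.1 hk _).1 (el_mem_TP C hw)
    exact ⟨v, hv, hve.symm⟩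
  have hgJ : g ∈ Subgroup.normalizer (C.VJ : Set G) := norm_of_plane C (himg hmem 1 (by decide))
    (himg hmem 18 (by decide)) (by simpa using himg (inv_mem hmem) 1 (by decide))
    (by simpa using himg (inv_mem hmem) 18 (by decide))
  obtain ⟨A, hA, hAg⟩ := C.act_norm hgJ
  have hcz : ∀ v < 27, app A (app zMap v) = app zMap (app A v) := fun v hv => by
    refine C.vi_inj (app_lt _ _) (app_lt _ _) ?_
    rw [← hAg _ (app_lt _ _), ← C.conj_z hv, ← C.conj_z (app_lt A v), ← hAg v hv,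
      show g * (el 81 * el (vi v) * (el 81)⁻¹) * g⁻¹ = (g * el 81) * el (vi v) * (g * el 81)⁻¹ by group, hz.eq]
    group
  have hpres : ∀ v ∈ O4, app A v ∈ O4 := fun v hv =>
    (hO _ (app_lt _ _)).1 (C.orb_app hA ((chk_pres_lt O4 (by simp)).1 v hv)
      ((hO v ((chk_pres_lt O4 (by simp)).1 v hv)).2 hv))
  have hA1 : A.1 ∈ O4 := by
    have h := hpres 1 (by decide)
    obtain ⟨a, q, r⟩ := A
    obtain ⟨h1, h2, h3, -⟩ := hA
    have e : app (a, q, r) 1 = a := by
      have h := C.el_app h1 h2 h3 1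
      simp at h
      exact C.vi_inj (app_lt _ _) h1 h
    rwa [e] at h
  have hOk : Ok2 A = true := by
    obtain ⟨a, q, r⟩ := A
    exact chk_ok a hA1 q hA.2.1 r hA.2.2.1
      (List.all_eq_true.2 fun v hv => List.contains_iff_mem.2 (hpres v hv)) (C.not_sing hA) hcz
  simp only [Ok2, List.contains_iff_mem, List.mem_cons, List.not_mem_nil, or_false, Prod.mk.injEq] at hOk
  rcases hOk with ⟨a, b⟩ | ⟨a, b⟩
  · left
    refine mem_TZ C hz (mul_inv_eq_iff_eq_mul.1 ?_) (mul_inv_eq_iff_eq_mul.1 ?_)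
    · rw [hAg 1 (by norm_num), a]
    · rw [hAg 18 (by norm_num), b]
  · right
    refine mem_TZ C ((s_z C S hO).mul_left hz) (mul_inv_eq_iff_eq_mul.1 ?_) (mul_inv_eq_iff_eq_mul.1 ?_)
    · rw [show s * g * el (vi 1) * (s * g)⁻¹ = s * (g * el (vi 1) * g⁻¹) * s⁻¹ by group, hAg 1 (by norm_num), a,
        S.act 18 (by norm_num), chk_swap.2.1]
    · rw [show s * g * el (vi 18) * (s * g)⁻¹ = s * (g * el (vi 18) * g⁻¹) * s⁻¹ by group, hAg 18 (by norm_num), b,
        S.act 1 (by norm_num), chk_swap.2.2.1]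

/-- Squares of elements normalising the plane. -/
theorem norm_sq {g : G} (hz : Commute g (el 81)) (hN : ∀ x ∈ TP C, g * x * g⁻¹ ∈ TP C) : g * g ∈ TZ C := by
  rcases norm_plane C S hO hz hN with h | h
  · exact mul_mem h h
  · have hsN : ∀ x ∈ TZ C, s * x * s⁻¹ ∈ TZ C := by
      rintro _ ⟨v, hv, hve⟩
      refine ⟨app swMap v, (chk_fz.2.1 v hv).2, ?_⟩
      rcases hve with rfl | rfl
      · exact Or.inl (S.act v (chk_pt.2.2.2 v hv).1)
      · right
        rw [show s * (el (vi v) * el 81) * s⁻¹ = s * el (vi v) * s⁻¹ * (s * el 81 * s⁻¹) by group,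
          S.act v (chk_pt.2.2.2 v hv).1, (s_z C S hO).eq, mul_inv_cancel_right]
    have := mul_mem (hsN _ h) h
    rwa [show s * (s * g) * s⁻¹ * (s * g) = (s * s) * (g * g) by group, S.sq, one_mul] at this

/-- The plane is a Sylow subgroup of the centraliser of the involution. -/
theorem sylow_cz : ∃ P : Sylow 3 (cz el), (P : Subgroup (cz el)) = (TP C).subgroupOf (cz el) := by
  haveI : Fact (Nat.Prime 3) := ⟨Nat.prime_three⟩
  set D := cz el
  obtain ⟨P, hP⟩ := (IsPGroup.of_card (n := 2) (show Nat.card ((TP C).subgroupOf D) = 3 ^ 2 by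
    rw [Nat.card_congr (Subgroup.subgroupOfEquivOfLe (TP_le_cent C)).toEquiv, TP_card C])).exists_le_sylow
  refine ⟨P, ?_⟩
  by_contra hne
  haveI : Group.IsNilpotent (P : Subgroup D) := P.isPGroup'.isNilpotent
  set S' := ((TP C).subgroupOf D).subgroupOf (P : Subgroup D)
  have hS' : S' < ⊤ := lt_top_iff_ne_top.2 fun h => hne (le_antisymm (Subgroup.subgroupOf_eq_top.1 h) hP)
  obtain ⟨q, hq, hqS⟩ := SetLike.exists_of_lt (normalizerCondition_of_isNilpotent S' hS')
  set n : G := ((q : D) : G)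
  have hz : Commute n (el 81) := Subgroup.mem_centralizer_singleton_iff.1 (q : D).2
  have hsq := norm_sq C S hO hz fun x hx => by
    have h := (Subgroup.mem_normalizer_iff.1 hq ⟨⟨x, TP_le_cent C hx⟩, hP (Subgroup.mem_subgroupOf.2 hx)⟩).1
      (Subgroup.mem_subgroupOf.2 (Subgroup.mem_subgroupOf.2 hx))
    exact Subgroup.mem_subgroupOf.1 (Subgroup.mem_subgroupOf.1 h)
  obtain ⟨k, hk⟩ := P.isPGroup' q
  have hnk : n ^ 3 ^ k = 1 := congrArg (fun y : (P : Subgroup D) => ((y : D) : G)) hk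
  obtain ⟨m, hm⟩ : ∃ m, 3 ^ k = 2 * m + 1 := Odd.pow (by decide : Odd 3)
  have hn : n ∈ TZ C := by
    have e : (n * n) ^ (m + 1) = n := by
      rw [← pow_two, ← pow_mul, show 2 * (m + 1) = 3 ^ k + 1 by omega, pow_succ, hnk, one_mul]
    rw [← e]
    exact pow_mem hsq _
  obtain ⟨v, hv, e | e⟩ := hn
  · exact hqS (Subgroup.mem_subgroupOf.2 (Subgroup.mem_subgroupOf.2 ⟨v, hv, e.symm⟩))
  · refine z_ne_one C ?_
    rw [e, (el_plane_z C hv).mul_pow, hm, pow_succ (el 81), pow_mul (el 81), pow_two, C.z_sq, one_pow, one_mul] at hnk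
    have h1 : (el (vi v) ^ (2 * m + 1)) ^ 3 = 1 := C.VJ_cube (pow_mem (show el (vi v) ∈ C.VJ from ⟨v, (chk_pt.2.2.2 v hv).1, rfl⟩) _)
    rw [eq_inv_of_mul_eq_one_left hnk, inv_pow, inv_eq_one, pow_three, C.z_sq, mul_one] at h1
    exact h1

/-- A representative of the four classes of lines. -/
theorem plane_cases {t : G} (ht : t ∈ TP C) (h1 : t ≠ 1) {g : G} (hg : Commute g t) :
    Commute g (el 9) ∨ Commute (s * g * s⁻¹) (el 9) ∨ g ∈ cg el 10 ∨ g ∈ cg el 19 := by
  obtain ⟨v, hv, rfl⟩ := ht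
  have hneg : ∀ {w : ℕ}, w < 27 → v = vneg w → Commute g (el (vi w)) := fun {w} hw e => by
    have := hg
    rw [e, C.orb_inv hw] at this
    simpa using this.inv_right
  have hsg : ∀ w, Commute g (el (vi w)) → w < 27 → app swMap w = 1 → Commute (s * g * s⁻¹) (el 9) :=
    fun w h hw e => by
      have := (Commute.conj_iff s).2 h
      rwa [S.act w hw, e, chk_swap.2.2.2.2.2.2.1] at this
  rcases chk_fz.2.2.2.2.2 v hv with h | rfl | h | rfl | h
  · simp only [List.mem_cons, List.not_mem_nil, or_false] at h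
    rcases h with rfl | rfl | rfl | rfl | rfl
    · exact absurd (by rw [chk_vi.2.1, C.el_zero]) h1
    · rw [chk_vi.2.2.1] at hg; exact Or.inl hg
    · refine Or.inl ?_
      rw [S3342Two.vi_two C] at hg
      simpa using hg.inv_right
    · exact Or.inr (Or.inl (hsg 18 (hneg (by norm_num) chk_swap.2.2.2.2.1.symm) (by norm_num) chk_swap.2.1))
    · exact Or.inr (Or.inl (hsg 18 hg (by norm_num) chk_swap.2.1))
  · exact Or.inr (Or.inr (Or.inl (Subgroup.mem_centralizer_singleton_iff.2 hg.eq)))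
  · exact Or.inr (Or.inr (Or.inl (Subgroup.mem_centralizer_singleton_iff.2 (hneg (by norm_num) h).eq)))
  · exact Or.inr (Or.inr (Or.inr (Subgroup.mem_centralizer_singleton_iff.2 hg.eq)))
  · exact Or.inr (Or.inr (Or.inr (Subgroup.mem_centralizer_singleton_iff.2 (hneg (by norm_num) h).eq)))

theorem cg_le {g : G} (h : g ∈ cg el 10 ∨ g ∈ cg el 19) : g ∈ Subgroup.normalizer (C.VJ : Set G) :=
  h.elim (fun h => S3342Id.LocalCent.cent_10_le_O4 C hO h) fun h => S3342Id.LocalCent.cent_19_le_O4 C hO h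

theorem conj_s_z {g : G} (hz : Commute g (el 81)) : Commute (s * g * s⁻¹) (el 81) :=
  ((s_z C S hO).mul_left hz).mul_left (s_z C S hO).inv_left

/-- Centralisers of non-trivial elements of the plane have exponent dividing twelve. -/
theorem pow_twelve {t : G} (ht : t ∈ TP C) (h1 : t ≠ 1) {g : G} (hz : Commute g (el 81)) (hg : Commute g t) :
    g ^ 12 = 1 := by
  rcases plane_cases C S hO ht h1 hg with h | h | h
  · exact (exponent_cent C hz h.eq).1
  · have := (exponent_cent C (conj_s_z C S hO hz) h.eq).1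
    rw [conj_pow] at this
    exact conj_eq_one_iff.1 this
  · have hJ := cg_le C S hO h
    have hsq := norm_sq C S hO hz (norm_of_VJ C hz hJ)
    rw [show 12 = 2 * 6 by norm_num, pow_mul, pow_two]
    exact TZ_pow C hsq

/-- The centraliser of `el 36`. -/
theorem cent36 {g : G} (hz : Commute g (el 81)) (hg : Commute g (el (vi 10))) : g ∈ TZ C := by
  have hgc : g ∈ cg el 10 := Subgroup.mem_centralizer_singleton_iff.2 hg.eq
  rcases norm_plane C S hO hz (norm_of_VJ C hz (cg_le C S hO (Or.inl hgc))) with h | h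
  · exact h
  · exfalso
    obtain ⟨v, hv, hve⟩ := h
    have h10 := el_mem_TP C (show 10 ∈ plane by decide)
    have hc : Commute (s * g) (el (vi 10)) := by
      have hJ := C.VJ_comm ⟨v, (chk_pt.2.2.2 v hv).1, rfl⟩ (TP_le_VJ C h10)
      rcases hve with e | e <;> rw [e]
      · exact hJ
      · exact (show Commute (el (vi v)) _ from hJ).mul_left (el_plane_z C (by decide)).symm
    have := hc.mul_left hg.inv_left
    rw [mul_inv_cancel_right] at this
    have e := S.act 10 (by norm_num)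
    rw [this.eq, mul_inv_cancel_right] at e
    exact chk_swap.2.2.2.1 (C.vi_inj (app_lt _ _) (by norm_num) e.symm)

end Cfsg.Agent.S3342Four
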