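import Cfsg.Agent.Lib.S3342Four.Local
import Cfsg.Agent.Lib.A9Three.Quot
import Cfsg.Agent.Lib.Techniques.PConstrained
import Mathlib.GroupTheory.SpecificGroups.Cyclic

/-!
S3342, the orbit of four points: the centraliser of the involution has order at most eighteen modulo its core.
-/

set_option autoImplicit false
set_option maxRecDepth 20000
set_option synthInstance.maxSize 10000
set_option linter.style.haveILetI false
set_option linter.unusedSectionVars false

namespace Cfsg.Agent.S3342Four

open Cfsg.Agent.Hayden Cfsg.Agent.Hayden.Cfg Cfsg.Agent.S3342CentZ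
open Cfsg.Agent.S3342Two (TP TP_le_VJ TP_le_cent TP_card)

universe u

/-- The group of order three. -/
abbrev M3 := Multiplicative (ZMod 3)

variable {G : Type u} [Group G] [Finite G] {el : ℕ → G} {s : G}

/-- The core of the centraliser of the involution. -/
abbrev cO (el : ℕ → G) : Subgroup (cz el) := Cfsg.pPrimeCore 3 (cz el)

/-- The projection modulo the core. -/
abbrev pr (el : ℕ → G) : cz el →* cz el ⧸ cO el := QuotientGroup.mk' (cO el)

theorem pr_coprime : (Nat.card (pr el).ker).Coprime 3 := by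
  haveI : Fact (Nat.Prime 3) := ⟨Nat.prime_three⟩
  rw [QuotientGroup.ker_mk']; exact FittingCores.pPrimeCore_coprime 3

/-- The involution in its centraliser. -/
def zD (el : ℕ → G) : cz el := ⟨el 81, Subgroup.mem_centralizer_singleton_iff.2 rfl⟩

variable (C : Cfg el)
include C

theorem zD_mem : zD el ∈ cO el := by
  have h2 : zD el ^ 2 = 1 := Subtype.ext (by rw [SubgroupClass.coe_pow, pow_two]; exact C.z_sq)
  refine PBasic.le_pPrimeCore (N := Subgroup.zpowers (zD el)) ⟨fun x hx d => ?_⟩ ?_ (Subgroup.mem_zpowers _)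
  · obtain ⟨k, rfl⟩ := Subgroup.mem_zpowers_iff.1 hx
    have hc : Commute d (zD el) :=
      Subtype.ext (Subgroup.mem_centralizer_singleton_iff.1 d.2)
    rw [(hc.zpow_right k).eq, mul_inv_cancel_right]
    exact Subgroup.zpow_mem _ (Subgroup.mem_zpowers _) k
  · rw [Nat.card_zpowers]
    exact Nat.Coprime.coprime_dvd_left (orderOf_dvd_of_pow_eq_one h2) (by norm_num)

theorem pr_zD : pr el (zD el) = 1 := (QuotientGroup.eq_one_iff _).2 (zD_mem C)

/-- The plane in the centraliser. -/
theorem pr_plane_inj {x : cz el} (hx : (x : G) ∈ TP C) (h : pr el x = 1) : x = 1 := by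
  haveI : Fact (Nat.Prime 3) := ⟨Nat.prime_three⟩
  refine orderOf_eq_one_iff.1 (Nat.eq_one_of_dvd_coprimes (pr_coprime (el := el))
    (Subgroup.orderOf_dvd_natCard _ h) (orderOf_dvd_of_pow_eq_one (Subtype.ext ?_)))
  rw [SubgroupClass.coe_pow]
  exact C.VJ_cube (TP_le_VJ C hx)

variable (S : C.Sw s) (hO : ∀ v < 27, C.Orb v ↔ v ∈ O4)
include S hO

/-- Elements commuting with a plane element modulo the core. -/
theorem lift_cent {t : cz el} (ht : (t : G) ∈ TP C) {y : cz el ⧸ cO el} (hy : Commute y (pr el t)) :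
    ∃ g : cz el, Commute (g : G) t ∧ pr el g = y := by
  haveI : Fact (Nat.Prime 3) := ⟨Nat.prime_three⟩
  have hU : IsPGroup 3 (Subgroup.zpowers t) := by
    obtain ⟨i, -, hi⟩ := (Nat.dvd_prime_pow Nat.prime_three).1 (show orderOf t ∣ 3 ^ 1 from
      orderOf_dvd_of_pow_eq_one (Subtype.ext (by rw [SubgroupClass.coe_pow, pow_one]; exact C.VJ_cube (TP_le_VJ C ht))))
    exact IsPGroup.of_card (n := i) (by rw [Nat.card_zpowers, hi])
  have hy' : y ∈ Subgroup.centralizer ((Subgroup.zpowers t).map (pr el) : Set (cz el ⧸ cO el)) := by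
    rw [Subgroup.mem_centralizer_iff]
    rintro _ ⟨u, hu, rfl⟩
    obtain ⟨k, rfl⟩ := Subgroup.mem_zpowers_iff.1 hu
    rw [map_zpow]
    exact (hy.zpow_right k).symm.eq
  rw [← PConstr.map_centralizer_eq (pr el) (QuotientGroup.mk'_surjective _) (pr_coprime (el := el)) hU] at hy'
  obtain ⟨g, hg, rfl⟩ := hy'
  exact ⟨g, (congrArg Subtype.val (Subgroup.mem_centralizer_iff.1 hg t (Subgroup.mem_zpowers _))).symm, rfl⟩

/-- No element of order prime to six commutes with a non-trivial plane element modulo the core. -/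
theorem eq_one_of_comm {t : cz el} (ht : (t : G) ∈ TP C) (h1 : t ≠ 1) {y : cz el ⧸ cO el} {r : ℕ}
    (hr : r.Coprime 12) (hyr : y ^ r = 1) (hy : Commute y (pr el t)) : y = 1 := by
  obtain ⟨g, hg, rfl⟩ := lift_cent C S hO ht hy
  have h12 : g ^ 12 = 1 := Subtype.ext (by
    rw [SubgroupClass.coe_pow]
    exact pow_twelve C S hO ht (fun e => h1 (Subtype.ext e)) (Subgroup.mem_centralizer_singleton_iff.1 g.2) hg)
  exact orderOf_eq_one_iff.1 (Nat.eq_one_of_dvd_coprimes hr (orderOf_dvd_of_pow_eq_one hyr)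
    (orderOf_dvd_of_pow_eq_one (by rw [← map_pow, h12, map_one])))

/-- The homomorphism onto the group of order three. -/
theorem exists_hom : ∃ f : cz el →* M3, ∀ v, ∀ hv : v ∈ plane,
    (f ⟨el (vi v), TP_le_cent C (el_mem_TP C hv)⟩ = 1 ↔ fz v = 0) := by
  haveI : Fact (Nat.Prime 3) := ⟨Nat.prime_three⟩
  obtain ⟨P, hP⟩ := sylow_cz C S hO
  have hex : ∀ x : (P : Subgroup (cz el)), ∃ v ∈ plane, el (vi v) = ((x : cz el) : G) := fun x => by
    have h := hP.le x.2
    exact Subgroup.mem_subgroupOf.1 h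
  choose idx hidx hel using hex
  have hlt : ∀ {v : ℕ}, v ∈ plane → v < 27 := fun hv => (chk_pt.2.2.2 _ hv).1
  let φ : (P : Subgroup (cz el)) →* M3 := MonoidHom.mk' (fun x => Multiplicative.ofAdd ((fz (idx x) : ℕ) : ZMod 3))
    fun x y => by
      have e : idx (x * y) = vadd (idx x) (idx y) := C.vi_inj (hlt (hidx _)) (vadd_lt _ _) (by
        rw [C.el_vadd (hlt (hidx x)) (hlt (hidx y)), hel, hel, hel]; rfl)
      rw [← ofAdd_add, e, (chk_fz.1 _ (hidx x) _ (hidx y)).2, ← Nat.cast_add, ZMod.natCast_mod]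
  haveI : IsMulCommutative (P : Subgroup (cz el)) := ⟨⟨fun x y => Subtype.ext (Subtype.ext
    (C.VJ_comm (TP_le_VJ C (Subgroup.mem_subgroupOf.1 (hP.le x.2)))
      (TP_le_VJ C (Subgroup.mem_subgroupOf.1 (hP.le y.2)))))⟩⟩
  obtain ⟨f, hf⟩ := A9Three.exists_transfer P φ (by
    intro x y g e
    obtain ⟨n, hn, hne⟩ := P.conj_eq_normalizer_conj_of_mem (x : cz el) g⁻¹ x.2 (by
      rw [inv_inv, e]; exact y.2)
    rw [inv_inv, e] at hne
    set k : G := ((n⁻¹ : cz el) : G) with hk
    have hkN : ∀ z ∈ TP C, k * z * k⁻¹ ∈ TP C := fun z hz => by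
      have h := (Subgroup.mem_normalizer_iff.1 (inv_mem hn) ⟨z, TP_le_cent C hz⟩).1
        (hP.ge (Subgroup.mem_subgroupOf.2 hz))
      exact Subgroup.mem_subgroupOf.1 (hP.le h)
    have hkz : Commute k (el 81) := Subgroup.mem_centralizer_singleton_iff.1 (n⁻¹ : cz el).2
    have hxy : k * el (vi (idx x)) * k⁻¹ = el (vi (idx y)) := by
      rw [hel, hel, hne, hk]; push_cast; group
    have hTZ : ∀ w ∈ TZ C, w * el (vi (idx x)) * w⁻¹ = el (vi (idx x)) := by
      rintro w ⟨v, hv, rfl | rfl⟩
      · rw [C.VJ_comm ⟨v, hlt hv, rfl⟩ ⟨_, hlt (hidx x), rfl⟩, mul_inv_cancel_right]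
      · rw [show el (vi v) * el 81 * el (vi (idx x)) * (el (vi v) * el 81)⁻¹ =
          el (vi v) * (el 81 * el (vi (idx x)) * (el 81)⁻¹) * (el (vi v))⁻¹ by group,
          (el_plane_z C (hidx x)).symm.eq, mul_inv_cancel_right,
          C.VJ_comm ⟨v, hlt hv, rfl⟩ ⟨_, hlt (hidx x), rfl⟩, mul_inv_cancel_right]
    show Multiplicative.ofAdd _ = Multiplicative.ofAdd _
    congr 2
    rcases norm_plane C S hO hkz hkN with h | h
    · rw [C.vi_inj (hlt (hidx y)) (hlt (hidx x)) (hxy.symm.trans (hTZ _ h))]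
    · have h' := hTZ _ h
      rw [show s * k * el (vi (idx x)) * (s * k)⁻¹ = s * (k * el (vi (idx x)) * k⁻¹) * s⁻¹ by group, hxy,
        S.act _ (hlt (hidx y))] at h'
      rw [← C.vi_inj (app_lt _ _) (hlt (hidx x)) h', (chk_fz.2.1 _ (hidx y)).1])
  refine ⟨f, fun v hv => ?_⟩
  have hvP : (⟨el (vi v), TP_le_cent C (el_mem_TP C hv)⟩ : cz el) ∈ (P : Subgroup (cz el)) :=
    hP.ge (Subgroup.mem_subgroupOf.2 (el_mem_TP C hv))
  rw [hf ⟨_, hvP⟩, A9Three.pow_eq_one_iff_m3 _ P.not_dvd_index]
  show Multiplicative.ofAdd _ = 1 ↔ _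
  rw [C.vi_inj (hlt (hidx ⟨_, hvP⟩)) (hlt hv) (hel _), ← ofAdd_zero, Multiplicative.ofAdd.injective.eq_iff,
    ← Nat.cast_zero, ZMod.natCast_eq_natCast_iff']
  have h3 : fz v < 3 := Nat.mod_lt _ (by norm_num)
  omega

/-- A plane element centralises no subgroup of order five or seven, so none is normalised by too many. -/
theorem no_sylow {r : ℕ} [Fact r.Prime] (hr : r.Coprime 12) {R : Subgroup (cz el ⧸ cO el)} (hR : Nat.card R = r)
    {H : Subgroup (cz el)} (hH : ∀ t ∈ H, (t : G) ∈ TP C) (hfix : ∀ t ∈ H, pr el t ∈ Subgroup.normalizer (R : Set _))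
    (hcard : ¬ Nat.card H ∣ r - 1) : False := by
  let ψ : H →* MulAut R := R.normalizerMonoidHom.comp
    (((pr el).comp H.subtype).codRestrict (Subgroup.normalizer (R : Set _)) fun t => hfix t t.2)
  haveI : IsCyclic R := isCyclic_of_prime_card hR
  have hni : ¬ Function.Injective ψ := fun hi => hcard (by
    have := Subgroup.card_dvd_of_injective ψ hi
    rwa [IsCyclic.card_mulAut R, hR, Nat.totient_prime Fact.out] at this)
  rw [injective_iff_map_eq_one] at hni
  push Not at hni
  obtain ⟨t, ht, ht1⟩ := hni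
  obtain ⟨y, hy⟩ := exists_prime_orderOf_dvd_card' r (dvd_of_eq hR.symm)
  have hfixy : pr el t * y * (pr el t)⁻¹ = (y : cz el ⧸ cO el) :=
    congrArg Subtype.val (DFunLike.congr_fun ht y)
  have := eq_one_of_comm C S hO (hH t t.2) (fun e => ht1 (Subtype.ext e)) (y := (y : cz el ⧸ cO el)) hr
    (by rw [← SubgroupClass.coe_pow, ← hy, pow_orderOf_eq_one]; rfl) (mul_inv_eq_iff_eq_mul.1 hfixy).symm
  rw [show y = 1 from Subtype.ext this, orderOf_one] at hy
  exact (Fact.out : r.Prime).one_lt.ne hy

/-- The centraliser of the involution modulo its core is small. -/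
theorem card_quot : Nat.card (cz el ⧸ cO el) ≤ 18 := by
  classical
  haveI : Fact (Nat.Prime 3) := ⟨Nat.prime_three⟩
  obtain ⟨P, hP⟩ := sylow_cz C S hO
  have hPc : Nat.card (P : Subgroup (cz el)) = 3 ^ 2 := by
    rw [hP, Nat.card_congr (Subgroup.subgroupOfEquivOfLe (TP_le_cent C)).toEquiv, TP_card C]
  obtain ⟨f, hf⟩ := exists_hom C S hO
  have hle : cO el ≤ f.ker := fun o ho => orderOf_eq_one_iff.1 (Nat.eq_one_of_dvd_coprimes
    (FittingCores.pPrimeCore_coprime 3) ((orderOf_map_dvd f o).trans (Subgroup.orderOf_dvd_natCard _ ho))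
    (by simpa using orderOf_dvd_natCard (f o)))
  set F : cz el ⧸ cO el →* M3 := QuotientGroup.lift (cO el) f hle
  set K := F.ker
  -- the self-centralising element
  have h10 : (10 : ℕ) ∈ plane := by decide
  set p : cz el := ⟨el (vi 10), TP_le_cent C (el_mem_TP C h10)⟩ with hp
  set x : K := ⟨pr el p, (hf 10 h10).2 chk_fz.2.2.2.1⟩ with hx
  have hx3 : orderOf x = 3 := by
    refine orderOf_eq_prime (Subtype.ext ?_) fun h => ?_
    · show pr el p ^ 3 = 1
      rw [← map_pow, show p ^ 3 = 1 from Subtype.ext (by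
        rw [SubgroupClass.coe_pow]; exact C.VJ_cube (TP_le_VJ C (el_mem_TP C h10))), map_one]
    · have := pr_plane_inj C (x := p) (el_mem_TP C h10) (congrArg Subtype.val h)
      have e := congrArg Subtype.val this
      exact absurd (C.vi_inj (w := 0) (by norm_num) (by norm_num) (e.trans (by rw [chk_vi.2.1, C.el_zero]; rfl)))
        (by norm_num)
  have hcent : Subgroup.centralizer ({x} : Set K) = Subgroup.zpowers x := by
    refine le_antisymm (fun k hk => ?_) (Subgroup.zpowers_le.2 (Subgroup.mem_centralizer_singleton_iff.2 rfl))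
    obtain ⟨g, hg, hgk⟩ := lift_cent C S hO (t := p) (el_mem_TP C h10) (y := (k : cz el ⧸ cO el))
      (congrArg Subtype.val (Subgroup.mem_centralizer_singleton_iff.1 hk))
    obtain ⟨v, hv, hve⟩ := cent36 C S hO (Subgroup.mem_centralizer_singleton_iff.1 g.2) hg
    set q : cz el := ⟨el (vi v), TP_le_cent C (el_mem_TP C hv)⟩ with hq
    have hgq : pr el g = pr el q := by
      rcases hve with e | e
      · exact congrArg (pr el) (Subtype.ext e)
      · rw [show g = q * zD el from Subtype.ext e, map_mul, pr_zD C, mul_one]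
    have hfq : fz v = 0 := (hf v hv).1 (by
      have h1 : F (k : cz el ⧸ cO el) = 1 := k.2
      rw [← hgk, hgq] at h1
      exact h1)
    rcases chk_fz.2.2.1 v hv hfq with rfl | rfl | rfl
    · have : k = 1 := Subtype.ext (by
        rw [← hgk, hgq, show q = 1 from Subtype.ext (by rw [hq]; show el (vi 0) = 1; rw [chk_vi.2.1, C.el_zero]),
          map_one]; rfl)
      rw [this]; exact one_mem _
    · rw [show k = x from Subtype.ext (by rw [← hgk, hgq])]
      exact Subgroup.mem_zpowers _
    · rw [show k = x⁻¹ from Subtype.ext (by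
        rw [← hgk, hgq, show q = p⁻¹ from Subtype.ext (by rw [hq]; exact C.orb_inv (by norm_num)), map_inv]; rfl)]
      exact inv_mem (Subgroup.mem_zpowers _)
  have hcore : Cfsg.pPrimeCore 3 K = ⊥ := by
    have := PBasic.map_pPrimeCore_le_of_normal (p := 3) K
    rw [PBasic.pPrimeCore_quotient_pPrimeCore 3 (cz el), le_bot_iff] at this
    exact (Subgroup.map_eq_bot_iff_of_injective _ K.subtype_injective).1 this
  have h6 : Nat.card K ≤ 6 := by
    -- the action of the plane
    let φ : (P : Subgroup (cz el)) →* MulAut K := MulAut.conjNormal.comp ((pr el).comp (P : Subgroup (cz el)).subtype)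
    have hnorm : ∀ {r : ℕ} (R : Sylow r K) (t : (P : Subgroup (cz el))),
        (letI := MulAction.compHom (Sylow r K) φ; t • R = R) →
        pr el t ∈ Subgroup.normalizer (((R : Subgroup K).map K.subtype : Subgroup _) : Set (cz el ⧸ cO el)) := by
      intro r R t ht
      refine Subgroup.mem_normalizer_fintype ?_
      rintro _ ⟨a, ha, rfl⟩
      refine ⟨φ t a, ?_, rfl⟩
      have h : (φ t • R : Sylow r K) = R := ht
      show φ t a ∈ (R : Subgroup K)
      rw [← h]
      exact Subgroup.smul_mem_pointwise_smul a _ _ ha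
    rcases A9Three.shape hx3 hcent hcore with h | ⟨h60, -⟩ | ⟨-, Q, hQ, hc⟩
    · exact h
    · exfalso
      haveI : Fact (Nat.Prime 5) := ⟨by norm_num⟩
      letI := MulAction.compHom (Sylow 5 K) φ
      let R : Sylow 5 K := default
      have hR5 : Nat.card (R : Subgroup K) = 5 := by
        rw [Sylow.card_eq_multiplicity, h60, show (60 : ℕ) = 5 ^ 1 * 12 by norm_num,
          Nat.factorization_mul (by norm_num) (by norm_num), Finsupp.add_apply,
          Nat.Prime.factorization_pow (by norm_num), Finsupp.single_eq_same,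
          Nat.factorization_eq_zero_of_not_dvd (by norm_num)]
        norm_num
      have hn : Nat.card (Sylow 5 K) < 9 := by
        have h1 := R.card_dvd_index
        have h2 : (R : Subgroup K).index = 12 := by
          have := (R : Subgroup K).card_mul_index
          rw [hR5, h60] at this
          omega
        rw [h2] at h1
        have h3 : Nat.card (Sylow 5 K) % 5 = 1 := card_sylow_modEq_one 5 K
        have h4 := Nat.le_of_dvd (by norm_num) h1
        by_contra h9
        interval_cases (Nat.card (Sylow 5 K)) <;> omega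
      set H := MulAction.stabilizer (P : Subgroup (cz el)) R
      have hH : 1 < Nat.card H := by
        by_contra hle'
        have hH1 : Nat.card H = 1 := le_antisymm (not_lt.1 hle') Nat.card_pos
        have h1 := Nat.card_congr (MulAction.orbitEquivQuotientStabilizer (P : Subgroup (cz el)) R)
        have h2 := Subgroup.card_eq_card_quotient_mul_card_subgroup H
        rw [hH1, mul_one, hPc] at h2
        rw [← h2] at h1
        have h3 : Nat.card (MulAction.orbit (P : Subgroup (cz el)) R) ≤ Nat.card (Sylow 5 K) :=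
          Nat.card_le_card_of_injective _ Subtype.val_injective
        omega
      refine no_sylow C S hO (r := 5) (by norm_num) (R := (R : Subgroup K).map K.subtype)
        (by rw [Subgroup.card_map_of_injective K.subtype_injective, hR5])
        (H := H.map (P : Subgroup (cz el)).subtype) ?_ ?_ ?_
      · rintro _ ⟨t, -, rfl⟩
        exact Subgroup.mem_subgroupOf.1 (hP.le t.2)
      · rintro _ ⟨t, ht, rfl⟩
        exact hnorm R t ht
      · rw [Subgroup.card_map_of_injective (Subgroup.subtype_injective _)]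
        intro hd
        have h9 : Nat.card H ∣ 9 := by
          have := Subgroup.card_subgroup_dvd_card H
          rwa [hPc] at this
        have := Nat.eq_one_of_dvd_coprimes (by norm_num : Nat.Coprime 9 4) h9 hd
        omega
    · exfalso
      haveI : Fact (Nat.Prime 7) := ⟨by norm_num⟩
      letI := MulAction.compHom (Sylow 7 K) φ
      obtain ⟨R, hR⟩ := P.isPGroup'.nonempty_fixed_point_of_prime_not_dvd_card (Sylow 7 K) hc
      have hR7 : Nat.card (R : Subgroup K) = 7 := by
        rw [Sylow.card_eq_multiplicity, ← Sylow.card_eq_multiplicity Q, hQ]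
      refine no_sylow C S hO (r := 7) (by norm_num) (R := (R : Subgroup K).map K.subtype)
        (by rw [Subgroup.card_map_of_injective K.subtype_injective, hR7]) (H := (P : Subgroup (cz el))) ?_ ?_ ?_
      · exact fun t ht => Subgroup.mem_subgroupOf.1 (hP.le ht)
      · exact fun t ht => hnorm R ⟨t, ht⟩ (hR ⟨t, ht⟩)
      · rw [hPc]; norm_num
  have hmul := Subgroup.card_eq_card_quotient_mul_card_subgroup K
  have hidx : Nat.card ((cz el ⧸ cO el) ⧸ K) ≤ 3 := by
    rw [Nat.card_congr (QuotientGroup.quotientKerEquivRange F).toEquiv]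
    exact Nat.le_of_dvd (by norm_num) (by simpa using Subgroup.card_subgroup_dvd_card F.range)
  rw [hmul]
  calc _ ≤ 3 * 6 := Nat.mul_le_mul hidx h6
    _ = 18 := by norm_num

end Cfsg.Agent.S3342Four
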