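import Cfsg.Agent.Lib.S3342CentZ.Quot

/-!
S3342, the orbit of four points, the centraliser of the involution: tables.
-/

set_option autoImplicit false
set_option maxRecDepth 100000
set_option synthInstance.maxSize 10000

namespace Cfsg.Agent.S3342Four

open Cfsg.Agent.Hayden Cfsg.Agent.S3342CentZ

/-- The two maps of the plane. -/
def Ok2 (A : ℕ × ℕ × ℕ) : Bool := [(1, 18), (18, 1)].contains (app A 1, app A 18)

theorem chk_ok : ∀ a ∈ O4, ∀ q < 27, ∀ r < 27, pres (a, q, r) O4 = true → sing (a, q, r) = false →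
    (∀ v < 27, app (a, q, r) (app zMap v) = app zMap (app (a, q, r) v)) → Ok2 (a, q, r) = true := by
  decide +kernel

/-- The homomorphism of the plane killing `el 36`. -/
def fz (v : ℕ) : ℕ := (v % 3 + 2 * (v / 9)) % 3

theorem chk_fz : (∀ v ∈ plane, ∀ w ∈ plane, vadd v w ∈ plane ∧ fz (vadd v w) = (fz v + fz w) % 3) ∧
    (∀ v ∈ plane, fz (app swMap v) = fz v ∧ app swMap v ∈ plane) ∧
    (∀ v ∈ plane, fz v = 0 → v = 0 ∨ v = 10 ∨ v = vneg 10) ∧ fz 10 = 0 ∧ fz 1 = 1 ∧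
    (∀ v ∈ plane, v ∈ [0, 1, 2, 9, 18] ∨ v = 10 ∨ v = vneg 10 ∨ v = 19 ∨ v = vneg 19) := by decide +kernel

theorem chk_swap : app swMap 9 = 2 ∧ app swMap 18 = 1 ∧ app swMap 1 = 18 ∧ app swMap 10 ≠ 10 ∧ vneg 18 = 9 ∧
    vi 18 = 54 ∧ vi 1 = 9 ∧ (∀ v ∈ plane, app swMap (app swMap v) = v) := by decide +kernel

theorem chk_cent : ∀ i < 648, T i 81 = T 81 i →
    T (T (T (T i i) i) (T (T i i) i)) (T (T (T i i) i) (T (T i i) i)) = 0 ∧
      (T (T i i) (T i i) = 0 → ∃ k ∈ q8, 27 * k = i) := by decide +kernel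

theorem chk_rep : ∃ reps : Fin 4 → ℕ, (∀ r, reps r ∈ q8) ∧
    ∀ k ∈ q8, ∃ r, 27 * k = 27 * reps r ∨ 27 * k = T (27 * reps r) 81 :=
  ⟨fun r => [0, 6, 14, 17].getD r 0, by decide +kernel, by decide +kernel⟩

theorem chk_len : q8.length = 8 := by decide +kernel

end Cfsg.Agent.S3342Four
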